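-- CS3 (S4284), part END, package [I6]: C_G(Q) is abelian of index m, and |G : Q| is a power of m.
import Mathlib
import Cfsg.Agent.Lib.Helper79.CS3.EndDefs
import Cfsg.Agent.Lib.Helper29.CS3.EndE5a

set_option autoImplicit false

namespace Cfsg.Agent.Lib.Helper29.CS3

open Cfsg.Agent.Lib.Helper81.CS3 Cfsg.Agent.Lib.Helper79.CS3
open scoped Pointwise

universe u

/-- **[I6]** -/
theorem pkgI6_of (hI1 : PkgI1.{u}) : PkgI6.{u} := by
  intro G _ _ m n Q P p hS hI hmp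
  obtain ⟨hrel, hab, -, -⟩ := hI1 m n Q P p hS hI
  have hS0 := hS.s0
  have hQn := hS0.qn
  have hQc := hS0.qc
  have hinf := hS0.inf
  have hsup := hS0.sup
  have : Fact p.Prime := ⟨hS.pp⟩
  obtain ⟨K, hK⟩ : ∃ K : Subgroup G, K = Subgroup.centralizer (Q : Set G) := ⟨_, rfl⟩
  have hKn : K.Normal := by rw [hK]; infer_instance
  have hQK : Q ≤ K := by
    intro q hq
    rw [hK, Subgroup.mem_centralizer_iff]
    intro h hh
    exact hQc h hh q hq
  have hKP : K ⊔ P = ⊤ := by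
    rw [eq_top_iff, ← hsup]
    exact sup_le_sup_right hQK P
  rw [← hK]
  refine ⟨⟨?_, ?_⟩, ?_⟩
  · have e1 : K.relIndex (K ⊔ P) = K.relIndex P := Subgroup.relIndex_sup_left P K
    rw [hKP, Subgroup.relIndex_top_right] at e1
    rw [e1, hK]
    exact hrel
  · have hdec : ∀ g ∈ K, ∃ q ∈ Q, ∃ a ∈ P, a ∈ K ∧ g = q * a := by
      intro g hg
      have hgtop : g ∈ ((Q ⊔ P : Subgroup G) : Set G) := by
        rw [hsup]; exact Subgroup.mem_top g
      rw [Subgroup.normal_mul] at hgtop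
      obtain ⟨q, hq, a, ha, rfl⟩ := Set.mem_mul.1 hgtop
      refine ⟨q, hq, a, ha, ?_, rfl⟩
      have e : a = q⁻¹ * (q * a) := by group
      rw [e]
      exact K.mul_mem (K.inv_mem (hQK hq)) hg
    refine ⟨⟨fun x y => Subtype.ext ?_⟩⟩
    obtain ⟨q1, hq1, a1, ha1, ha1K, hx⟩ := hdec x.1 x.2
    obtain ⟨q2, hq2, a2, ha2, ha2K, hy⟩ := hdec y.1 y.2
    show (x : G) * (y : G) = (y : G) * (x : G)
    rw [hx, hy]
    have c1 : q2 * a1 = a1 * q2 := by
      have h1 := ha1K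
      rw [hK, Subgroup.mem_centralizer_iff] at h1
      exact h1 q2 hq2
    have c2 : q1 * a2 = a2 * q1 := by
      have h1 := ha2K
      rw [hK, Subgroup.mem_centralizer_iff] at h1
      exact h1 q1 hq1
    have c3 : q1 * q2 = q2 * q1 := hQc q1 hq1 q2 hq2
    have c4 : a1 * a2 = a2 * a1 :=
      hab a1 ha1 (by rw [← hK]; exact ha1K) a2 ha2 (by rw [← hK]; exact ha2K)
    calc q1 * a1 * (q2 * a2) = q1 * (a1 * q2) * a2 := by group
      _ = q1 * (q2 * a1) * a2 := by rw [c1]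
      _ = (q1 * q2) * (a1 * a2) := by group
      _ = (q2 * q1) * (a2 * a1) := by rw [c3, c4]
      _ = q2 * (q1 * a2) * a1 := by group
      _ = q2 * (a2 * q1) * a1 := by rw [c2]
      _ = q2 * a2 * (q1 * a1) := by group
  · have hL : Q.index = Nat.card P := index_eq_card_of_compl Q P hinf hsup
    obtain ⟨k, hk⟩ := (IsPGroup.iff_card).1 hS.pg
    exact ⟨k, by rw [hL, hk, hmp]⟩

end Cfsg.Agent.Lib.Helper29.CS3
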