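-- CS3 (S4284), part GOOD, package [G5]: m a prime power => a normal abelian Hall subgroup.
import Mathlib
import Cfsg.Agent.Lib.Helper41.CS3.GoodDefs
import Cfsg.Agent.Lib.Helper29.CS3.EndE5a
import Cfsg.Agent.Lib.Helper29.CS3.EndI1
import Cfsg.Agent.S4127

set_option autoImplicit false

namespace Cfsg.Agent.Lib.Helper29.CS3

open Cfsg.Agent.Lib.Helper81.CS3 Cfsg.Agent.Lib.Helper41.CS3

universe u

/-- for `K` normal: `|K : K ⊓ C|` divides `|G : C|` -/
theorem relIndex_dvd_index_of_normal_right {G : Type u} [Group G] [Finite G]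
    (C K : Subgroup G) [K.Normal] : C.relIndex K ∣ C.index := by
  have h1 : C.relIndex K * Nat.card ↥(C ⊓ K) = Nat.card K := relIndex_mul_card_inf C K
  have h2 : C.relIndex (K ⊔ C) * Nat.card ↥(C ⊓ (K ⊔ C)) = Nat.card ↥(K ⊔ C) :=
    relIndex_mul_card_inf C (K ⊔ C)
  have e2 : C ⊓ (K ⊔ C) = C := inf_eq_left.2 le_sup_right
  rw [e2] at h2
  have h3 : K.relIndex (K ⊔ C) * Nat.card ↥(K ⊓ (K ⊔ C)) = Nat.card ↥(K ⊔ C) :=
    relIndex_mul_card_inf K (K ⊔ C)
  have e3 : K ⊓ (K ⊔ C) = K := inf_eq_left.2 le_sup_left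
  rw [e3, Subgroup.relIndex_sup_left C K] at h3
  have h5 : K.relIndex C * Nat.card ↥(K ⊓ C) = Nat.card C := relIndex_mul_card_inf K C
  have e5 : K ⊓ C = C ⊓ K := inf_comm K C
  rw [e5] at h5
  have hpos : 0 < K.relIndex C * Nat.card ↥(C ⊓ K) := by rw [h5]; exact Nat.card_pos
  have heq : C.relIndex (K ⊔ C) * (K.relIndex C * Nat.card ↥(C ⊓ K)) =
      C.relIndex K * (K.relIndex C * Nat.card ↥(C ⊓ K)) := by
    calc C.relIndex (K ⊔ C) * (K.relIndex C * Nat.card ↥(C ⊓ K))
        = C.relIndex (K ⊔ C) * Nat.card C := by rw [h5]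
      _ = Nat.card ↥(K ⊔ C) := h2
      _ = K.relIndex C * Nat.card K := h3.symm
      _ = K.relIndex C * (C.relIndex K * Nat.card ↥(C ⊓ K)) := by rw [h1]
      _ = C.relIndex K * (K.relIndex C * Nat.card ↥(C ⊓ K)) := by ring
  have h6 : C.relIndex (K ⊔ C) = C.relIndex K := Nat.eq_of_mul_eq_mul_right hpos heq
  rw [← h6]
  exact Subgroup.relIndex_dvd_index_of_le le_sup_right

/-- **[G5]** -/
theorem pkgG5 : PkgG5.{u} := by
  intro G _ _ m n hyp s a hG hj hD
  obtain ⟨j, hmj⟩ := hj
  have hsp := hG.sp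
  have : Fact s.Prime := ⟨hsp⟩
  obtain ⟨hnodf, hm1, hn1, hcop, hrange⟩ := hyp
  have hix : ∀ x : G, ix x = 1 ∨ ix x = m ∨ ix x = m * n := by
    intro x
    have h1 : ix x ∈ Set.range (fun x : G => (Subgroup.centralizer ({x} : Set G)).index) :=
      ⟨x, rfl⟩
    rw [hrange] at h1
    exact h1
  have hsn : ¬ s ∣ n := by
    intro h
    have h1 : s ∣ Nat.gcd m n := Nat.dvd_gcd hG.sm h
    have h2 : Nat.gcd m n = 1 := hcop
    rw [h2] at h1
    exact hsp.one_lt.ne' (Nat.dvd_one.1 h1)
  have hmax : ∀ y : G, ¬ s ^ (j + 1) ∣ (Subgroup.centralizer ({y} : Set G)).index := by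
    intro y hdvd
    rcases hix y with h | h | h
    · rw [show (Subgroup.centralizer ({y} : Set G)).index = 1 from h] at hdvd
      have h1 := Nat.dvd_one.1 hdvd
      have h2 : 1 < s ^ (j + 1) := Nat.one_lt_pow (by omega) hsp.one_lt
      omega
    · rw [show (Subgroup.centralizer ({y} : Set G)).index = m from h, hmj] at hdvd
      have h1 := Nat.le_of_dvd (pow_pos hsp.pos j) hdvd
      have h2 : s ^ j < s ^ (j + 1) := Nat.pow_lt_pow_right hsp.one_lt (by omega)
      omega
    · rw [show (Subgroup.centralizer ({y} : Set G)).index = m * n from h, hmj, pow_succ] at hdvd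
      exact hsn (Nat.dvd_of_mul_dvd_mul_left (pow_pos hsp.pos j) hdvd)
  have hx : ∃ x : G, (∃ k : ℕ, orderOf x = s ^ k) ∧
      (Subgroup.centralizer ({x} : Set G)).index = s ^ j :=
    ⟨a, hG.prim, by rw [← hmj]; exact hG.ixa⟩
  obtain ⟨P, K, hKn, hKP⟩ := Cfsg.Agent.S4127.result s j hmax hx
  have hidx : K.index = Nat.card (P : Subgroup G) := hKP.symm.index_eq_card
  have hcardK : Nat.card K = (P : Subgroup G).index := hKP.index_eq_card.symm
  have hKs : (Nat.card K).Coprime s := by
    rw [hcardK]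
    exact ((Nat.Prime.coprime_iff_not_dvd hsp).2 P.not_dvd_index).symm
  have hKm : (Nat.card K).Coprime m := by
    rw [hmj]
    exact Nat.Coprime.pow_right j hKs
  have hKn' : K.index.Coprime n := by
    rw [hidx, Sylow.card_eq_multiplicity]
    exact Nat.Coprime.pow_left _ ((Nat.Prime.coprime_iff_not_dvd hsp).2 hsn)
  have hprimary : ∀ (r : ℕ) (v : G), r.Prime → r ≠ s → v ∈ K → Prim r v → K ≤ Cn v := by
    intro r v hr hrs hvK hprim
    have hrm : ¬ r ∣ m := by
      rw [hmj]
      intro h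
      exact hrs ((Nat.prime_dvd_prime_iff_eq hr hsp).1 (hr.dvd_of_dvd_pow h))
    have h1 := hD r v hr hrm hprim
    have h2 : ix v ∣ s ^ j := by
      rcases hix v with h | h | h
      · rw [h]; exact one_dvd _
      · rw [h, hmj]
      · exact absurd h h1
    have h3 : (Cn v).relIndex K ∣ s ^ j :=
      (relIndex_dvd_index_of_normal_right (Cn v) K).trans h2
    have h4 : (Cn v).relIndex K ∣ Nat.card K := Subgroup.relIndex_dvd_card (Cn v) K
    have h5 : (Cn v).relIndex K = 1 := by
      have hc : ((Cn v).relIndex K).Coprime (s ^ j) :=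
        Nat.Coprime.coprime_dvd_left h4 (Nat.Coprime.pow_right j hKs)
      exact Nat.Coprime.eq_one_of_dvd hc h3
    exact Subgroup.relIndex_eq_one.1 h5
  have hcent : ∀ N : ℕ, ∀ x ∈ K, orderOf x = N → ∀ y ∈ K, x * y = y * x := by
    intro N
    induction N using Nat.strong_induction_on with
    | _ N ih =>
      intro x hxK hxN y hyK
      have hN0 : N ≠ 0 := by rw [← hxN]; exact (orderOf_pos x).ne'
      by_cases hN1 : N = 1
      · rw [hN1, orderOf_eq_one_iff] at hxN
        rw [hxN, one_mul, mul_one]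
      · obtain ⟨r, hr, hrN⟩ : ∃ r : ℕ, r.Prime ∧ r ∣ N :=
          ⟨N.minFac, Nat.minFac_prime hN1, Nat.minFac_dvd N⟩
        obtain ⟨e, c, hrc, hNe⟩ := Nat.exists_eq_pow_mul_and_not_dvd hN0 r hr.ne_one
        have hrs : r ≠ s := by
          intro h
          have h1 : s ∣ Nat.card K := by
            rw [← h]
            exact hrN.trans (by rw [← hxN]; exact Subgroup.orderOf_dvd_natCard K hxK)
          exact (Nat.Prime.coprime_iff_not_dvd hsp).1 hKs.symm h1
        have he : e ≠ 0 := by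
          intro he
          rw [he, pow_zero, one_mul] at hNe
          exact hrc (hNe ▸ hrN)
        have hc0 : c ≠ 0 := by
          intro hc
          rw [hc, mul_zero] at hNe
          exact hN0 hNe
        by_cases hc1 : c = 1
        · have hprim : Prim r x := ⟨e, by rw [hxN, hNe, hc1, mul_one]⟩
          have h1 := hprimary r x hr hrs hxK hprim hyK
          exact ((mem_cent_single y x).1 h1).symm
        · have hre : 1 < r ^ e := Nat.one_lt_pow he hr.one_lt
          have hc2 : 1 < c := by omega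
          have hcop' : Nat.Coprime c (r ^ e) :=
            (Nat.Coprime.pow_left e ((Nat.Prime.coprime_iff_not_dvd hr).2 hrc)).symm
          have ho1 : orderOf (x ^ c) = r ^ e := by
            rw [orderOf_pow, hxN, hNe, Nat.gcd_mul_left_left,
              Nat.mul_div_cancel _ (Nat.pos_of_ne_zero hc0)]
          have ho2 : orderOf (x ^ (r ^ e)) = c := by
            rw [orderOf_pow, hxN, hNe, Nat.gcd_mul_right_left,
              Nat.mul_div_cancel_left _ (by omega)]
          have hlt1 : r ^ e < N := by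
            rw [hNe]
            calc r ^ e = r ^ e * 1 := (mul_one _).symm
              _ < r ^ e * c := Nat.mul_lt_mul_of_pos_left hc2 (by omega)
          have hlt2 : c < N := by
            rw [hNe]
            calc c = 1 * c := (one_mul _).symm
              _ < r ^ e * c := Nat.mul_lt_mul_of_pos_right hre (by omega)
          have ih1 := ih (r ^ e) hlt1 (x ^ c) (K.pow_mem hxK c) ho1 y hyK
          have ih2 := ih c hlt2 (x ^ (r ^ e)) (K.pow_mem hxK _) ho2 y hyK
          obtain ⟨a', b', hab⟩ : IsCoprime (c : ℤ) ((r ^ e : ℕ) : ℤ) :=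
            Nat.isCoprime_iff_coprime.2 hcop'
          have hxe : x = (x ^ c) ^ a' * (x ^ (r ^ e)) ^ b' := by
            rw [← zpow_natCast x c, ← zpow_natCast x (r ^ e), ← zpow_mul, ← zpow_mul, ← zpow_add,
              mul_comm (c : ℤ) a', mul_comm ((r ^ e : ℕ) : ℤ) b', hab, zpow_one]
          have hmem : (x ^ c) ^ a' * (x ^ (r ^ e)) ^ b' ∈ Cn y :=
            (Cn y).mul_mem ((Cn y).zpow_mem ((mem_cent_single _ y).2 ih1) a')
              ((Cn y).zpow_mem ((mem_cent_single _ y).2 ih2) b')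
          rw [← hxe] at hmem
          exact (mem_cent_single x y).1 hmem
  exact ⟨K, hKn, ⟨⟨fun u v => Subtype.ext (hcent _ u.1 u.2 rfl v.1 v.2)⟩⟩, hKm, hKn'⟩

end Cfsg.Agent.Lib.Helper29.CS3
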